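import Mathlib
import Cfsg.Prelude.Def_LieExceptional

/-!
# The (B,N)-pair of `Sp_{2m}(F)`: definitions (helper5, for S2545)

Index set `Fin m ⊕ Fin m` with the total order given by `pos`:
`inl 0 < inl 1 < … < inl (m-1) < inr (m-1) < … < inr 0`.
`Bsub` = matrices of `Sp` upper triangular for this order, `Tsub` = diagonal ones, `Mono` = monomial ones.
-/

set_option autoImplicit false

namespace Cfsg.Agent.Helper5.SpBN

open Matrix

variable {F : Type*} [Field F] {m : ℕ}

/-- the position of an index in the total order `inl 0 < … < inl (m-1) < inr (m-1) < … < inr 0` -/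
def pos : Fin m ⊕ Fin m → ℕ
  | Sum.inl i => i.val
  | Sum.inr i => 2 * m - 1 - i.val

theorem pos_inl (i : Fin m) : pos (Sum.inl i : Fin m ⊕ Fin m) = i.val := rfl
theorem pos_inr (i : Fin m) : pos (Sum.inr i : Fin m ⊕ Fin m) = 2 * m - 1 - i.val := rfl

theorem pos_lt (a : Fin m ⊕ Fin m) : pos a < 2 * m := by
  rcases a with i | i
  · have := i.2; rw [pos_inl]; omega
  · have := i.2; rw [pos_inr]; omega

theorem pos_swap (a : Fin m ⊕ Fin m) : pos (Sum.swap a) = 2 * m - 1 - pos a := by
  rcases a with i | i
  · rfl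
  · have := i.2
    show i.val = 2 * m - 1 - (2 * m - 1 - i.val)
    omega

theorem pos_injective : Function.Injective (pos : Fin m ⊕ Fin m → ℕ) := by
  rintro (i | i) (j | j) h
  · exact congrArg Sum.inl (Fin.ext h)
  · have := i.2; have := j.2; rw [pos_inl, pos_inr] at h; omega
  · have := i.2; have := j.2; rw [pos_inl, pos_inr] at h; omega
  · have := i.2; have := j.2; rw [pos_inr, pos_inr] at h
    exact congrArg Sum.inr (Fin.ext (by omega))

/-- the symplectic group as a type -/
abbrev SpG (m : ℕ) (F : Type*) [Field F] := ↥(Matrix.symplecticGroup (Fin m) F)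

theorem coe_mul' (g h : SpG m F) :
    ((g * h : SpG m F) : Matrix (Fin m ⊕ Fin m) (Fin m ⊕ Fin m) F) = g.1 * h.1 := rfl

theorem coe_one' : ((1 : SpG m F) : Matrix (Fin m ⊕ Fin m) (Fin m ⊕ Fin m) F) = 1 := rfl

/-! ### the entries of `J` and of the inverse of a symplectic matrix -/


/-- the sign `J (swap b) b`: `1` on `inl`, `-1` on `inr` -/
def sgn (F : Type*) [Field F] {m : ℕ} : Fin m ⊕ Fin m → F
  | Sum.inl _ => 1
  | Sum.inr _ => -1

theorem sgn_mul_self (a : Fin m ⊕ Fin m) : sgn F a * sgn F a = 1 := by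
  rcases a with i | i <;> simp [sgn]

theorem sgn_swap (a : Fin m ⊕ Fin m) : sgn F (Sum.swap a) = - sgn F a := by
  rcases a with i | i <;> simp [sgn]

theorem sgn_ne_zero (a : Fin m ⊕ Fin m) : sgn F a ≠ 0 := by
  rcases a with i | i <;> simp [sgn]

theorem J_apply (a b : Fin m ⊕ Fin m) :
    J (Fin m) F a b = if a = Sum.swap b then sgn F b else 0 := by
  rcases a with i | i <;> rcases b with j | j
  · simp [J]
  · by_cases h : i = j
    · subst h; simp [J, sgn]
    · simp [J, Matrix.one_apply_ne h, h]
  · by_cases h : i = j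
    · subst h; simp [J, sgn]
    · simp [J, Matrix.one_apply_ne h, h]
  · simp [J]

/-- the entries of the inverse of a symplectic matrix -/
theorem inv_apply (g : SpG m F) (a b : Fin m ⊕ Fin m) :
    (g⁻¹ : SpG m F).1 a b = sgn F a * sgn F b * g.1 (Sum.swap b) (Sum.swap a) := by
  rw [SymplecticGroup.coe_inv, Matrix.mul_apply]
  rw [Finset.sum_eq_single (Sum.swap b)]
  · rw [Matrix.mul_apply, Finset.sum_eq_single (Sum.swap a)]
    · rw [Matrix.neg_apply, J_apply, J_apply, if_pos (by rw [Sum.swap_swap]), if_pos rfl,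
        Matrix.transpose_apply, sgn_swap]
      ring
    · intro c _ hc
      rw [Matrix.neg_apply, J_apply, if_neg, neg_zero, zero_mul]
      intro h
      apply hc
      rw [h, Sum.swap_swap]
    · intro h; exact absurd (Finset.mem_univ _) h
  · intro c _ hc
    rw [J_apply, if_neg hc, mul_zero]
  · intro h; exact absurd (Finset.mem_univ _) h


/-- the Borel subgroup: upper triangular matrices of `Sp` (for the order `pos`) -/
def Bsub (m : ℕ) (F : Type*) [Field F] : Subgroup (SpG m F) where
  carrier := {g | BlockTriangular (g.1) (pos : Fin m ⊕ Fin m → ℕ)}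
  mul_mem' := fun {g h} hg hh => BlockTriangular.mul hg hh
  one_mem' := blockTriangular_one
  inv_mem' := fun {g} hg => by
    show BlockTriangular ((g⁻¹ : SpG m F).1) pos
    rw [SymplecticGroup.coe_inv']
    have : Invertible g.1 :=
      Matrix.invertibleOfIsUnitDet _ (SymplecticGroup.symplectic_det g.2)
    exact blockTriangular_inv_of_blockTriangular hg

theorem mem_Bsub_iff (g : SpG m F) :
    g ∈ Bsub m F ↔ ∀ a b : Fin m ⊕ Fin m, pos b < pos a → g.1 a b = 0 :=
  ⟨fun h _ _ hab => h hab, fun h _ _ hab => h _ _ hab⟩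

/-- the torus: diagonal matrices of `Sp` -/
def Tsub (m : ℕ) (F : Type*) [Field F] : Subgroup (SpG m F) where
  carrier := {g | ∀ a b : Fin m ⊕ Fin m, a ≠ b → g.1 a b = 0}
  mul_mem' := fun {g h} hg hh a b hab => by
    rw [coe_mul', Matrix.mul_apply]
    apply Finset.sum_eq_zero
    intro c _
    by_cases hac : a = c
    · subst hac
      rw [hh a b hab, mul_zero]
    · rw [hg a c hac, zero_mul]
  one_mem' := fun a b hab => Matrix.one_apply_ne hab
  inv_mem' := fun {g} hg a b hab => by
    rw [SymplecticGroup.coe_inv]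
    have hT : ∀ c d : Fin m ⊕ Fin m, c ≠ d → (g.1)ᵀ c d = 0 := fun c d hcd => hg d c (Ne.symm hcd)
    have hJ : ∀ c d : Fin m ⊕ Fin m, d ≠ Sum.swap c → (J (Fin m) F) c d = 0 := by
      intro c d hcd
      rcases c with i | i <;> rcases d with j | j
      · simp [J]
      · have : i ≠ j := fun h => hcd (by rw [h]; rfl)
        simp [J, Matrix.one_apply_ne this]
      · have : i ≠ j := fun h => hcd (by rw [h]; rfl)
        simp [J, Matrix.one_apply_ne this]
      · simp [J]
    rw [Matrix.mul_apply]
    apply Finset.sum_eq_zero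
    intro c _
    by_cases hcb : b = Sum.swap c
    · rw [Matrix.mul_apply]
      have : ∑ d, (-J (Fin m) F) a d * (g.1)ᵀ d c = 0 := by
        apply Finset.sum_eq_zero
        intro d _
        by_cases hdc : d = c
        · subst hdc
          have hda : d ≠ Sum.swap a := by
            intro h
            apply hab
            rw [hcb, h, Sum.swap_swap]
          rw [Matrix.neg_apply, hJ a d hda, neg_zero, zero_mul]
        · rw [hT d c hdc, mul_zero]
      rw [this, zero_mul]
    · rw [hJ c b hcb, mul_zero]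

theorem mem_Tsub_iff (g : SpG m F) :
    g ∈ Tsub m F ↔ ∀ a b : Fin m ⊕ Fin m, a ≠ b → g.1 a b = 0 := Iff.rfl

theorem Tsub_le_Bsub : Tsub m F ≤ Bsub m F := by
  intro g hg
  rw [mem_Bsub_iff]
  intro a b hab
  exact hg a b (fun h => by rw [h] at hab; exact lt_irrefl _ hab)

/-- the monomial matrices of `Sp`: column `b` is supported in row `π b` for a permutation `π` -/
def Mono (m : ℕ) (F : Type*) [Field F] : Subgroup (SpG m F) where
  carrier := {g | ∃ π : Equiv.Perm (Fin m ⊕ Fin m), ∀ a b : Fin m ⊕ Fin m, a ≠ π b → g.1 a b = 0}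
  mul_mem' := by
    rintro g h ⟨π, hπ⟩ ⟨ρ, hρ⟩
    refine ⟨π * ρ, fun a b hab => ?_⟩
    rw [coe_mul', Matrix.mul_apply]
    apply Finset.sum_eq_zero
    intro c _
    by_cases hc : c = ρ b
    · subst hc
      rw [hπ a (ρ b) hab, zero_mul]
    · rw [hρ c b hc, mul_zero]
  one_mem' := ⟨1, fun a b hab => Matrix.one_apply_ne hab⟩
  inv_mem' := by
    rintro g ⟨π, hπ⟩
    refine ⟨π⁻¹, fun a c hac => ?_⟩
    have hmul : (g⁻¹ : SpG m F).1 * g.1 = 1 := by
      rw [← coe_mul', inv_mul_cancel, coe_one']
    have key : ∀ a' b : Fin m ⊕ Fin m,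
        ((g⁻¹ : SpG m F).1 * g.1) a' b = (g⁻¹ : SpG m F).1 a' (π b) * g.1 (π b) b := by
      intro a' b
      rw [Matrix.mul_apply]
      apply Finset.sum_eq_single (π b)
      · intro c' _ hc'
        rw [hπ c' b hc', mul_zero]
      · intro h; exact absurd (Finset.mem_univ _) h
    set b := π⁻¹ c with hb
    have hc : c = π b := by rw [hb]; exact (Equiv.apply_symm_apply π c).symm
    have h1 := key b b
    rw [hmul, Matrix.one_apply_eq] at h1
    have hne : g.1 (π b) b ≠ 0 := by
      intro h0
      rw [h0, mul_zero] at h1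
      exact one_ne_zero h1
    have h2 := key a b
    rw [hmul, Matrix.one_apply_ne hac] at h2
    rw [hc]
    rcases mul_eq_zero.1 h2.symm with h | h
    · exact h
    · exact absurd h hne

theorem mem_Mono_iff (g : SpG m F) :
    g ∈ Mono m F ↔ ∃ π : Equiv.Perm (Fin m ⊕ Fin m), ∀ a b : Fin m ⊕ Fin m, a ≠ π b → g.1 a b = 0 :=
  Iff.rfl

theorem Tsub_le_Mono : Tsub m F ≤ Mono m F := fun g hg => ⟨1, fun a b hab => hg a b hab⟩

/-! ### the simple roots

For `k : Fin m` the `k`-th simple root joins the adjacent positions `k` and `k + 1`: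
`rowIdx k = inl k` (position `k`) and `colIdx k` (position `k + 1`), which is `inl (k+1)` if `k + 1 < m`
(a short root) and `inr k` if `k = m - 1` (the long root). -/

/-- the index at position `k + 1` -/
def colIdx (k : Fin m) : Fin m ⊕ Fin m :=
  if h : k.val + 1 < m then Sum.inl ⟨k.val + 1, h⟩ else Sum.inr k

/-- the index at position `k` -/
def rowIdx (k : Fin m) : Fin m ⊕ Fin m := Sum.inl k

/-- the root element `x_k(t)`: `1 + t E_{a,b} - t E_{swap b, swap a}` for a short root (`a = inl k`,
`b = inl (k+1)`), `1 + t E_{a, swap a}` for the long root (`a = inl (m-1)`) -/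
def xMat (k : Fin m) (t : F) : Matrix (Fin m ⊕ Fin m) (Fin m ⊕ Fin m) F :=
  if k.val + 1 < m then
    1 + t • Matrix.single (rowIdx k) (colIdx k) (1 : F)
      - t • Matrix.single (Sum.swap (colIdx k)) (Sum.swap (rowIdx k)) (1 : F)
  else 1 + t • Matrix.single (rowIdx k) (colIdx k) (1 : F)

theorem rowIdx_ne_colIdx (k : Fin m) : rowIdx k ≠ colIdx k := by
  unfold rowIdx colIdx
  split_ifs with h
  · intro h'
    have := Sum.inl.inj h'
    rw [Fin.ext_iff] at this
    simp at this
  · simp

theorem pos_rowIdx (k : Fin m) : pos (rowIdx k) = k.val := rfl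

theorem pos_colIdx (k : Fin m) : pos (colIdx k) = k.val + 1 := by
  unfold colIdx
  split_ifs with h
  · rfl
  · have := k.2
    rw [pos_inr]
    omega

/-- the permutation of the indices induced by `s_k`: it exchanges the positions `k`, `k + 1` and the
positions `2m - 2 - k`, `2m - 1 - k` (the same pair when `k = m - 1`) -/
def sPerm (k : Fin m) : Equiv.Perm (Fin m ⊕ Fin m) :=
  if k.val + 1 < m then
    Equiv.swap (rowIdx k) (colIdx k) * Equiv.swap (Sum.swap (rowIdx k)) (Sum.swap (colIdx k))
  else Equiv.swap (rowIdx k) (colIdx k)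

/-- the nonzero entry of `sMat k` in column `b`: always `1`, except for the long root (`k = m - 1`) in
the column `colIdx k = inr k`, where it is `-1` -/
def sSign (F : Type*) [Field F] {m : ℕ} (k : Fin m) (b : Fin m ⊕ Fin m) : F :=
  if k.val + 1 < m then 1 else if b = colIdx k then -1 else 1

/-- the representative of the simple reflection `s_k`: `e_b ↦ sSign k b • e_{sPerm k b}`.
For a short root the permutation matrix of `(a b)(swap a, swap b)`; for the long root
`e_a ↦ e_{swap a}`, `e_{swap a} ↦ -e_a`, the other basis vectors being fixed -/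
def sMat (k : Fin m) : Matrix (Fin m ⊕ Fin m) (Fin m ⊕ Fin m) F :=
  Matrix.of fun a b => if a = sPerm k b then sSign F k b else 0

theorem sMat_apply (k : Fin m) (a b : Fin m ⊕ Fin m) :
    sMat (F := F) k a b = if a = sPerm k b then sSign F k b else 0 := rfl

theorem xMat_apply (k : Fin m) (t : F) (a b : Fin m ⊕ Fin m) :
    xMat k t a b = (if a = b then 1 else 0) + (if rowIdx k = a ∧ colIdx k = b then t else 0)
      - (if k.val + 1 < m then
          (if Sum.swap (colIdx k) = a ∧ Sum.swap (rowIdx k) = b then t else 0) else 0) := by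
  unfold xMat
  by_cases h : k.val + 1 < m
  · simp only [if_pos h, Matrix.add_apply, Matrix.sub_apply, Matrix.smul_apply, Matrix.single_apply,
      Matrix.one_apply, smul_eq_mul, mul_ite, mul_one, mul_zero]
  · simp only [if_neg h, Matrix.add_apply, Matrix.smul_apply, Matrix.single_apply,
      Matrix.one_apply, smul_eq_mul, mul_ite, mul_one, mul_zero, sub_zero]

/-! ### the action of `s_k` on the positions -/


theorem eq_iff_pos_eq (x y : Fin m ⊕ Fin m) : x = y ↔ pos x = pos y :=
  ⟨congrArg pos, fun h => pos_injective h⟩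

/-- the action of `sPerm k` on positions -/
theorem pos_sPerm (k : Fin m) (a : Fin m ⊕ Fin m) :
    pos (sPerm k a) = if pos a = k.val then k.val + 1 else if pos a = k.val + 1 then k.val
      else if pos a = 2 * m - 2 - k.val then 2 * m - 1 - k.val
      else if pos a = 2 * m - 1 - k.val then 2 * m - 2 - k.val else pos a := by
  have hk := k.2
  have ha := pos_lt a
  unfold sPerm
  by_cases h : k.val + 1 < m
  · rw [if_pos h]
    simp only [Equiv.Perm.mul_apply, Equiv.swap_apply_def, eq_iff_pos_eq, pos_rowIdx, pos_colIdx,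
      pos_swap, apply_ite pos]
    split_ifs <;> omega
  · rw [if_neg h]
    simp only [Equiv.swap_apply_def, eq_iff_pos_eq, pos_rowIdx, pos_colIdx, apply_ite pos]
    split_ifs <;> omega

theorem sPerm_sPerm (k : Fin m) (a : Fin m ⊕ Fin m) : sPerm k (sPerm k a) = a := by
  apply pos_injective
  rw [pos_sPerm, pos_sPerm]
  have hk := k.2
  have ha := pos_lt a
  split_ifs <;> omega

theorem sPerm_swap (k : Fin m) (a : Fin m ⊕ Fin m) : sPerm k (Sum.swap a) = Sum.swap (sPerm k a) := by
  apply pos_injective
  rw [pos_swap, pos_sPerm, pos_sPerm, pos_swap]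
  have hk := k.2
  have ha := pos_lt a
  split_ifs <;> omega


/-- the root subgroup `X_k` (as a set) -/
def Xset (k : Fin m) : Set (SpG m F) := {g | ∃ t : F, g.1 = xMat k t}

/-- the representatives of `s_k` in `Sp` (a set with at most one element, exactly one by `sMat_mem`) -/
def Sk (k : Fin m) : Set (SpG m F) := {g | g.1 = sMat k}

/-- the set of distinguished representatives -/
def Sset (m : ℕ) (F : Type*) [Field F] : Set (SpG m F) := {g | ∃ k : Fin m, g.1 = sMat k}

/-- the group `N` -/
def Nsub (m : ℕ) (F : Type*) [Field F] : Subgroup (SpG m F) :=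
  Subgroup.closure (Sset m F) ⊔ Tsub m F

end Cfsg.Agent.Helper5.SpBN
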