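import Mathlib
import Cfsg.Agent.Helper5.SpBN.Defs

set_option autoImplicit false

namespace Cfsg.Agent.Helper5.SpBN

open Matrix

variable {F : Type*} [Field F] {m : ℕ}

/-! ### monomial matrices: API (helper5, for S2545) -/

theorem inv_mul_coe (g : SpG m F) : (g⁻¹ : SpG m F).1 * g.1 = 1 := by
  rw [← coe_mul', inv_mul_cancel, coe_one']

theorem mul_inv_coe (g : SpG m F) : g.1 * (g⁻¹ : SpG m F).1 = 1 := by
  rw [← coe_mul', mul_inv_cancel, coe_one']

section mono

variable (n : SpG m F) (π : Equiv.Perm (Fin m ⊕ Fin m))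
  (hπ : ∀ a b : Fin m ⊕ Fin m, a ≠ π b → n.1 a b = 0)
include hπ

/-- the product of a matrix with a monomial matrix -/
theorem mul_mono_apply (A : Matrix (Fin m ⊕ Fin m) (Fin m ⊕ Fin m) F) (a b : Fin m ⊕ Fin m) :
    (A * n.1) a b = A a (π b) * n.1 (π b) b := by
  rw [Matrix.mul_apply]
  apply Finset.sum_eq_single (π b)
  · intro c _ hc
    rw [hπ c b hc, mul_zero]
  · intro h; exact absurd (Finset.mem_univ _) h

/-- the nonzero entries of a monomial matrix are nonzero -/
theorem mono_apply_ne_zero (b : Fin m ⊕ Fin m) : n.1 (π b) b ≠ 0 := by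
  intro h0
  have h1 := mul_mono_apply n π hπ (n⁻¹ : SpG m F).1 b b
  rw [inv_mul_coe, Matrix.one_apply_eq, h0, mul_zero] at h1
  exact one_ne_zero h1

/-- the inverse of a monomial matrix is monomial for the inverse permutation -/
theorem mono_inv_apply_eq_zero (a c : Fin m ⊕ Fin m) (hac : a ≠ π⁻¹ c) :
    (n⁻¹ : SpG m F).1 a c = 0 := by
  set b := π⁻¹ c with hb
  have hc : c = π b := by rw [hb]; exact (Equiv.apply_symm_apply π c).symm
  have h2 := mul_mono_apply n π hπ (n⁻¹ : SpG m F).1 a b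
  rw [inv_mul_coe, Matrix.one_apply_ne hac] at h2
  rw [hc]
  rcases mul_eq_zero.1 h2.symm with h | h
  · exact h
  · exact absurd h (mono_apply_ne_zero n π hπ b)

theorem mono_inv_apply_mul (a : Fin m ⊕ Fin m) :
    (n⁻¹ : SpG m F).1 a (π a) * n.1 (π a) a = 1 := by
  have h1 := mul_mono_apply n π hπ (n⁻¹ : SpG m F).1 a a
  rw [inv_mul_coe, Matrix.one_apply_eq] at h1
  exact h1.symm

theorem mono_inv_apply_ne_zero (a : Fin m ⊕ Fin m) : (n⁻¹ : SpG m F).1 a (π a) ≠ 0 := by
  intro h0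
  have := mono_inv_apply_mul n π hπ a
  rw [h0, zero_mul] at this
  exact zero_ne_one this

/-- the product of the inverse of a monomial matrix with a matrix -/
theorem inv_mono_mul_apply (A : Matrix (Fin m ⊕ Fin m) (Fin m ⊕ Fin m) F) (a b : Fin m ⊕ Fin m) :
    ((n⁻¹ : SpG m F).1 * A) a b = (n⁻¹ : SpG m F).1 a (π a) * A (π a) b := by
  rw [Matrix.mul_apply]
  apply Finset.sum_eq_single (π a)
  · intro c _ hc
    rw [mono_inv_apply_eq_zero n π hπ a c, zero_mul]
    intro h
    apply hc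
    rw [h]
    exact (Equiv.apply_symm_apply π c).symm
  · intro h; exact absurd (Finset.mem_univ _) h

/-- conjugation by a monomial matrix permutes the entries, up to nonzero scalars -/
theorem mono_conj_apply (g : SpG m F) (a b : Fin m ⊕ Fin m) :
    (n⁻¹ * g * n : SpG m F).1 a b = (n⁻¹ : SpG m F).1 a (π a) * g.1 (π a) (π b) * n.1 (π b) b := by
  rw [coe_mul', mul_mono_apply n π hπ, coe_mul', inv_mono_mul_apply n π hπ]

/-- conjugation by a monomial matrix, the other way round -/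
theorem mono_conj_apply' (g : SpG m F) (a b : Fin m ⊕ Fin m) :
    (n * g * n⁻¹ : SpG m F).1 (π a) (π b) =
      n.1 (π a) a * g.1 a b * (n⁻¹ : SpG m F).1 b (π b) := by
  have hρ : ∀ a' b' : Fin m ⊕ Fin m, a' ≠ π⁻¹ b' → (n⁻¹ : SpG m F).1 a' b' = 0 :=
    fun a' b' h => mono_inv_apply_eq_zero n π hπ a' b' h
  have h := mono_conj_apply (n⁻¹ : SpG m F) π⁻¹ hρ g (π a) (π b)
  rw [inv_inv] at h
  rw [h]
  simp

/-- a symplectic monomial matrix commutes with the swap of the indices -/
theorem mono_perm_swap (a : Fin m ⊕ Fin m) : π (Sum.swap a) = Sum.swap (π a) := by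
  by_contra hne
  have h0 : n.1 (Sum.swap (π a)) (Sum.swap a) = 0 := hπ _ _ (fun h => hne h.symm)
  have h1 := inv_apply n a (π a)
  rw [h0, mul_zero] at h1
  exact mono_inv_apply_ne_zero n π hπ a h1

end mono

end Cfsg.Agent.Helper5.SpBN
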