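import Mathlib
import Cfsg.Agent.Helper19.Unip.Full

/-!
# A longest element of a finite (B,N)-pair moves every root set out of `B`
(helper5, for S2545)
-/

set_option autoImplicit false

namespace Cfsg.Agent.Helper5.SpBN

open Cfsg Cfsg.Agent.Helper6 Cfsg.Agent.Helper19.Stein Cfsg.Agent.Helper19.Unip

section generic

variable {Γ : Type*} [Group Γ] (P' : Cfsg.BNPair Γ)

/-- (MXa) a longest element moves every root set out of `B` -/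
theorem exists_maxR_not_conj [Finite Γ] (X : P'.S → Set Γ)
    (hdec : ∀ s : P'.S, ∀ b ∈ P'.B, ∃ y x : Γ, b = y * x ∧ s.1 * y * s.1⁻¹ ∈ P'.B ∧ x ∈ X s) :
    ∃ (n₀ : Γ) (hn₀ : n₀ ∈ P'.N), MaxR (wf P') (mkW P' n₀ hn₀) ∧
      ∀ s : P'.S, ¬ ∀ x ∈ X s, n₀ * x * n₀⁻¹ ∈ P'.B := by
  have hE := exchData_wf P'
  obtain ⟨w₀, hw₀⟩ := exists_maxR hE
  obtain ⟨n₀, hn₀, rfl⟩ := mkW_surjective P' w₀
  refine ⟨n₀, hn₀, hw₀, fun s hall => ?_⟩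
  have h1 := hw₀ s
  have hn₀' : n₀⁻¹ ∈ P'.N := P'.N.inv_mem hn₀
  have hsn : s.1 * n₀⁻¹ ∈ P'.N := P'.N.mul_mem (P'.subset s.2) hn₀'
  have h2 : len P' P'.S (s.1 * n₀⁻¹) ≤ len P' P'.S n₀⁻¹ := by
    rw [← wl_mkW P' hsn, ← wl_mkW P' hn₀']
    have e1 : mkW P' (s.1 * n₀⁻¹) hsn = (mkW P' n₀ hn₀ * wf P' s)⁻¹ := by
      rw [mul_inv_rev, inv_gen hE s]
      rfl
    have e2 : mkW P' n₀⁻¹ hn₀' = (mkW P' n₀ hn₀)⁻¹ := rfl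
    rw [e1, e2, wl_inv' hE, wl_inv' hE]
    exact h1.le
  obtain ⟨c, hc, hcn⟩ := key2 (le_refl _) (expr_of_mem_N hn₀') s.2 h2
  obtain ⟨y, x, rfl, hy, hx⟩ := hdec s c hc
  have hx' := hall x hx
  have h3 : s.1 * (y * x) * n₀⁻¹ ∈ dc P' (s.1 * n₀⁻¹) := by
    rw [mem_dc]
    refine ⟨s.1 * y * s.1⁻¹, hy, n₀ * x * n₀⁻¹, hx', by group⟩
  have hrel := rel_of_dc_eq hsn hn₀' (mem_dc_both h3 hcn)
  exact not_rel_S_mul s.2 hn₀' hrel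

end generic

end Cfsg.Agent.Helper5.SpBN
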