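import Mathlib
import Cfsg.Agent.Helper19.Unip.Full
import Cfsg.Agent.Helper19.Stein.ChevIrr

/-!
# The alternating sum of the parabolic permutation characters of a finite (B,N)-pair is irreducible
(helper5, for S2545; generic version of `Helper19.Stein.steinberg_isIrr`)
-/

set_option autoImplicit false

namespace Cfsg.Agent.Helper5.SpBN

open Cfsg Cfsg.Agent.Helper6 Cfsg.Agent.Helper19.Stein Cfsg.Agent.Helper19.Unip
open scoped ComplexConjugate

section generic

variable {Γ : Type*} [Group Γ] (P' : Cfsg.BNPair Γ)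

theorem stFun_fun_eq [Fintype P'.S] :
    stFun P' = ∑ J' ∈ (Finset.univ : Finset P'.S).powerset,
      ((-1 : ℂ) ^ J'.card) • fixedPointCharacter (P'.parabolic (Subtype.val '' (↑J' : Set P'.S))) := by
  funext g
  rw [Finset.sum_apply]
  rfl

theorem classInner_stFun [Fintype Γ] [Fintype P'.S] :
    classInner (stFun P') (stFun P') = 1 := by
  classical
  rw [stFun_fun_eq P', Cfsg.Agent.Helper74.classInner_sum_left]
  simp only [Cfsg.Agent.Helper74.classInner_sum_right, Cfsg.Agent.Helper74.classInner_smul_left,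
    Cfsg.Agent.Helper74.classInner_smul_right, Cfsg.Agent.Helper42.Unip.classInner_fixedPoint]
  have hconj : ∀ k : ℕ, conj ((-1 : ℂ) ^ k) = (-1 : ℂ) ^ k := by
    intro k; simp
  simp only [hconj]
  have h := Cfsg.Agent.Helper31.SteinX2c.alternating_sum_orbits P'
  have h1 : Nat.card {d : P'.N ⧸ (P'.B ⊓ P'.N).subgroupOf P'.N // MaxL (wf P') d ∧ MaxR (wf P') d} = 1 :=
    card_maxLR (exchData_wf P')
  rw [h1] at h
  rw [Nat.cast_one] at h
  refine Eq.trans ?_ h
  refine Finset.sum_congr rfl fun J _ => Finset.sum_congr rfl fun K _ => ?_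
  ring

theorem stFun_isGenChar [Finite Γ] [Fintype P'.S] : IsGeneralizedCharacter Γ (stFun P') := by
  classical
  have : Fintype Γ := Fintype.ofFinite _
  rw [stFun_fun_eq P']
  refine Cfsg.Agent.Helper25.isGenChar_sum _ fun J _ => ?_
  have e : ((-1 : ℂ) ^ J.card) • fixedPointCharacter (P'.parabolic (Subtype.val '' (↑J : Set P'.S))) =
      ((-1 : ℤ) ^ J.card) • fixedPointCharacter (P'.parabolic (Subtype.val '' (↑J : Set P'.S))) := by
    funext g
    simp
  rw [e]
  refine Cfsg.Agent.Helper25.isGenChar_zsmul _ (Cfsg.Agent.Helper25.isGenChar_of_isCharacter ?_)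
  have : Fintype (Γ ⧸ P'.parabolic (Subtype.val '' (↑J : Set P'.S))) := Fintype.ofFinite _
  exact (Cfsg.Agent.Helper12.PermCharBasics.permChar_isCharacter :
    IsCharacter _ (Cfsg.Agent.Helper12.PermCharBasics.permChar Γ
      (Γ ⧸ P'.parabolic (Subtype.val '' (↑J : Set P'.S)))))

/-- (IRR) the alternating sum of the parabolic permutation characters of a finite (B,N)-pair is an
irreducible character as soon as its degree is positive -/
theorem stFun_isIrr [Finite Γ] [Fintype P'.S] (d : ℕ) (hd : 0 < d) (h1 : stFun P' 1 = (d : ℂ)) :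
    IsIrrCharacter Γ (stFun P') := by
  have : Fintype Γ := Fintype.ofFinite _
  obtain ⟨θ, h | h⟩ := Cfsg.Agent.Helper75.vc_pm_irr (stFun_isGenChar P') (classInner_stFun P')
  · rw [h]; exact θ.2
  · exfalso
    obtain ⟨e, he⟩ := Cfsg.Agent.Helper74.isCharacter_apply_one (Cfsg.Agent.Helper74.irr_isCharacter θ)
    rw [h, Pi.neg_apply, he] at h1
    have h2 : ((d + e : ℕ) : ℂ) = 0 := by
      push_cast
      linear_combination -h1
    have h3 := Nat.cast_eq_zero.mp h2
    omega

end generic

end Cfsg.Agent.Helper5.SpBN
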